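import Cfsg.Agent.Lib.Helper12.TC.Fi23P1x14080.Tab

/-! relator checks for Fi23P1x14080, part 2 (generated, helper12) -/

set_option autoImplicit false
set_option maxRecDepth 100000

namespace Cfsg.Agent.Lib.Helper12.TC.Fi23P1x14080

open Cfsg.Agent.Lib.Helper12.TC

theorem hperm0 : Fn.permOneK TT 0 cN = true := by decide +kernel

theorem hperm2 : Fn.permOneK TT 2 cN = true := by decide +kernel

theorem hperm4 : Fn.permOneK TT 4 cN = true := by decide +kernel

theorem hperm7 : Fn.permOneK TT 7 cN = true := by decide +kernel

theorem hm3 : Fn.marksK TT cN [([0, 3], 2)] = true := by decide +kernel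

theorem hm7 : Fn.marksK TT cN [([1, 4], 2)] = true := by decide +kernel

theorem hm11 : Fn.marksK TT cN [([1, 5], 2)] = true := by decide +kernel

theorem hm15 : Fn.marksK TT cN [([0, 6], 2)] = true := by decide +kernel

theorem hm19 : Fn.marksK TT cN [([4, 6], 2)] = true := by decide +kernel

theorem hm23 : Fn.marksK TT cN [([2, 7], 2)] = true := by decide +kernel

theorem hm27 : Fn.marksK TT cN [([6, 7], 2)] = true := by decide +kernel

theorem hm31 : Fn.marksK TT cN [([3, 8], 2)] = true := by decide +kernel

theorem hm35 : Fn.marksK TT cN [([7, 8], 3)] = true := by decide +kernel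

end Cfsg.Agent.Lib.Helper12.TC.Fi23P1x14080
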