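import Cfsg.Agent.Lib.Helper12.TC.Fi23P1x14080.Rel0
import Cfsg.Agent.Lib.Helper12.TC.Fi23P1x14080.Rel1
import Cfsg.Agent.Lib.Helper12.TC.Fi23P1x14080.Rel2
import Cfsg.Agent.Lib.Helper12.TC.Fi23P1x14080.Rel3
import Cfsg.Agent.Lib.Helper12.TC.Fi23P1Pres

/-! the permutation representation for Fi23P1x14080 (generated, helper12) -/

set_option autoImplicit false
set_option maxRecDepth 100000
set_option linter.unusedSimpArgs false

namespace Cfsg.Agent.Lib.Helper12.TC.Fi23P1x14080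

open Cfsg.Agent.Lib.Helper12.TC Cfsg.Agent.Lib.Helper12.TC.Fi23P1Pres

theorem hperm : Fn.permK TT 9 cN = true := by
  refine Fn.permK_of_ones (fun x hx => ?_)
  interval_cases x
  · exact hperm0
  · exact hperm1
  · exact hperm2
  · exact hperm3
  · exact hperm4
  · exact hperm5
  · exact hperm6
  · exact hperm7
  · exact hperm8

/-- words as powers -/
def specs : List (List ℕ × ℕ) :=
  [([0, 1], 3),
   ([0, 2], 2),
   ([1, 2], 3),
   ([0, 3], 2),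
   ([1, 3], 2),
   ([2, 3], 3),
   ([0, 4], 2),
   ([1, 4], 2),
   ([2, 4], 2),
   ([3, 4], 3),
   ([0, 5], 2),
   ([1, 5], 2),
   ([2, 5], 2),
   ([3, 5], 2),
   ([4, 5], 3),
   ([0, 6], 2),
   ([1, 6], 2),
   ([2, 6], 2),
   ([3, 6], 2),
   ([4, 6], 2),
   ([5, 6], 3),
   ([0, 7], 2),
   ([1, 7], 2),
   ([2, 7], 2),
   ([3, 7], 3),
   ([4, 7], 2),
   ([5, 7], 2),
   ([6, 7], 2),
   ([0, 8], 2),
   ([1, 8], 2),
   ([2, 8], 2),
   ([3, 8], 2),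
   ([4, 8], 2),
   ([5, 8], 2),
   ([6, 8], 2),
   ([7, 8], 3),
   ([3, 2, 1, 3, 4, 5, 3, 7, 8], 10),
   ([0, 1, 2, 3, 4, 5, 7], 9)]

theorem hspecs : coxWords Cfsg.Agent.Lib.Helper12.Ord.Fi23P1.edges gen 9 ++ extraWords =
    specs.map (fun s => wpow s.1 s.2) := by
  decide +kernel

theorem hfixall : Fn.FixAll TT cN specs :=
  Fn.fixAll_cons (Fn.fix_of_marksK hm0)
    (Fn.fixAll_cons (Fn.fix_of_marksK hm1)
    (Fn.fixAll_cons (Fn.fix_of_marksK hm2)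
    (Fn.fixAll_cons (Fn.fix_of_marksK hm3)
    (Fn.fixAll_cons (Fn.fix_of_marksK hm4)
    (Fn.fixAll_cons (Fn.fix_of_marksK hm5)
    (Fn.fixAll_cons (Fn.fix_of_marksK hm6)
    (Fn.fixAll_cons (Fn.fix_of_marksK hm7)
    (Fn.fixAll_cons (Fn.fix_of_marksK hm8)
    (Fn.fixAll_cons (Fn.fix_of_marksK hm9)
    (Fn.fixAll_cons (Fn.fix_of_marksK hm10)
    (Fn.fixAll_cons (Fn.fix_of_marksK hm11)
    (Fn.fixAll_cons (Fn.fix_of_marksK hm12)
    (Fn.fixAll_cons (Fn.fix_of_marksK hm13)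
    (Fn.fixAll_cons (Fn.fix_of_marksK hm14)
    (Fn.fixAll_cons (Fn.fix_of_marksK hm15)
    (Fn.fixAll_cons (Fn.fix_of_marksK hm16)
    (Fn.fixAll_cons (Fn.fix_of_marksK hm17)
    (Fn.fixAll_cons (Fn.fix_of_marksK hm18)
    (Fn.fixAll_cons (Fn.fix_of_marksK hm19)
    (Fn.fixAll_cons (Fn.fix_of_marksK hm20)
    (Fn.fixAll_cons (Fn.fix_of_marksK hm21)
    (Fn.fixAll_cons (Fn.fix_of_marksK hm22)
    (Fn.fixAll_cons (Fn.fix_of_marksK hm23)
    (Fn.fixAll_cons (Fn.fix_of_marksK hm24)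
    (Fn.fixAll_cons (Fn.fix_of_marksK hm25)
    (Fn.fixAll_cons (Fn.fix_of_marksK hm26)
    (Fn.fixAll_cons (Fn.fix_of_marksK hm27)
    (Fn.fixAll_cons (Fn.fix_of_marksK hm28)
    (Fn.fixAll_cons (Fn.fix_of_marksK hm29)
    (Fn.fixAll_cons (Fn.fix_of_marksK hm30)
    (Fn.fixAll_cons (Fn.fix_of_marksK hm31)
    (Fn.fixAll_cons (Fn.fix_of_marksK hm32)
    (Fn.fixAll_cons (Fn.fix_of_marksK hm33)
    (Fn.fixAll_cons (Fn.fix_of_marksK hm34)
    (Fn.fixAll_cons (Fn.fix_of_marksK hm35)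
    (Fn.fixAll_cons (Fn.fix_of_marksK hm36)
    (Fn.fixAll_cons (Fn.fix_of_marksK hm37)
    (Fn.fixAll_nil TT cN))))))))))))))))))))))))))))))))))))))

theorem hrels : Fn.relsK TT cN (coxWords Cfsg.Agent.Lib.Helper12.Ord.Fi23P1.edges gen 9 ++ extraWords) = true := by
  rw [hspecs]
  exact Fn.relsK_of_fixAll hfixall

theorem hsub : Fn.subK TT 9 sw = true := by decide +kernel

theorem htrans : Fn.transK TT 9 cN sw = true := by decide +kernel

end Cfsg.Agent.Lib.Helper12.TC.Fi23P1x14080
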